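import Groth.Prelude.Def_W4stkremschemesLRS
import Mathlib.Geometry.RingedSpace.SheafedSpace
import Mathlib.Topology.Sheaves.Stalks
import Mathlib.Topology.Sheaves.SheafCondition.UniqueGluing
import Mathlib.RingTheory.Ideal.Quotient.Operations
import Mathlib.Algebra.Category.Ring.FilteredColimits
import Mathlib.Algebra.Category.Ring.Limits

/-!
Factorisation through closed immersions of locally ringed spaces.
-/

universe u

open CategoryTheory TopologicalSpace Opposite AlgebraicGeometry

namespace Groth.Agent.LRSLib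

open LocallyRingedSpace

variable {X Y Z : LocallyRingedSpace.{u}}

lemma app_res (f : Y ⟶ X) {U V : Opens X.toTopCat} (h : U ≤ V) (a : X.presheaf.obj (op V)) :
    f.c.app (op U) (X.presheaf.map (homOfLE h).op a) =
      Y.presheaf.map (homOfLE (show (Opens.map f.base).obj U ≤ (Opens.map f.base).obj V from
        fun _ hy => h hy)).op (f.c.app (op V) a) :=
  ConcreteCategory.congr_hom (f.c.naturality (homOfLE h).op) a

lemma germ_stalkMap (f : Y ⟶ X) (U : Opens X.toTopCat) (y : Y) (hy : f.base y ∈ U)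
    (a : X.presheaf.obj (op U)) :
    f.stalkMap y (X.presheaf.germ U (f.base y) hy a) =
      Y.presheaf.germ ((Opens.map f.base).obj U) y hy (f.c.app (op U) a) :=
  PresheafedSpace.stalkMap_germ_apply f.toHom U y hy a

lemma exists_preimage_eq {i : Z ⟶ X} (hi : Topology.IsInducing i.base) (V : Opens Z.toTopCat) :
    ∃ W : Opens X.toTopCat, (Opens.map i.base).obj W = V := by
  obtain ⟨t, ht, htV⟩ := hi.isOpen_iff.1 V.2
  exact ⟨⟨t, ht⟩, Opens.ext htV⟩

lemma sec_ext {U : Opens Y.toTopCat} {s t : Y.presheaf.obj (op U)}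
    (h : ∀ (y : Y) (hy : y ∈ U), Y.presheaf.germ U y hy s = Y.presheaf.germ U y hy t) : s = t :=
  TopCat.Presheaf.section_ext Y.sheaf U s t h

/-- sections lift locally through a closed immersion -/
lemma exists_local_lift {i : Z ⟶ X} (h1 : Topology.IsInducing i.base)
    (h2 : TopCat.Presheaf.IsLocallySurjective i.c) (V : Opens Z.toTopCat)
    (s : Z.presheaf.obj (op V)) (z : Z) (hz : z ∈ V) :
    ∃ (W : Opens X.toTopCat) (_ : i.base z ∈ W) (a : X.presheaf.obj (op W))
      (hWV : (Opens.map i.base).obj W ≤ V),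
      i.c.app (op W) a = Z.presheaf.map (homOfLE hWV).op s := by
  obtain ⟨W1, rfl⟩ := exists_preimage_eq h1 V
  obtain ⟨W, hle, ⟨a, ha⟩, hxW⟩ :=
    (TopCat.Presheaf.isLocallySurjective_iff _).1 h2 W1 s (i.base z) hz
  exact ⟨W, hxW, a, fun _ hw => hle hw, ha⟩

lemma stalkMap_surjective {i : Z ⟶ X} (h1 : Topology.IsInducing i.base)
    (h2 : TopCat.Presheaf.IsLocallySurjective i.c) (z : Z) :
    Function.Surjective (i.stalkMap z) := by
  intro b
  obtain ⟨V, hz, s, rfl⟩ := Z.presheaf.exists_germ_eq b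
  obtain ⟨W, hW, a, hWV, ha⟩ := exists_local_lift h1 h2 V s z hz
  refine ⟨X.presheaf.germ W (i.base z) hW a, ?_⟩
  rw [germ_stalkMap, ha]
  exact Z.presheaf.germ_res_apply (homOfLE hWV) z hW s

/-- a germ killed by `i` is the germ of a section killed by `i` -/
lemma exists_killed_of_stalkMap_eq_zero {i : Z ⟶ X} (h1 : Topology.IsInducing i.base)
    (z : Z) (b : X.presheaf.stalk (i.base z)) (hb : i.stalkMap z b = 0) :
    ∃ (W : Opens X.toTopCat) (hW : i.base z ∈ W) (a : X.presheaf.obj (op W)),
      i.c.app (op W) a = 0 ∧ X.presheaf.germ W (i.base z) hW a = b := by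
  obtain ⟨U, hU, a, rfl⟩ := X.presheaf.exists_germ_eq b
  rw [germ_stalkMap] at hb
  obtain ⟨V, hzV, iU, iU', h⟩ :=
    TopCat.Presheaf.germ_eq (U := (Opens.map i.base).obj U) (V := (Opens.map i.base).obj U)
      Z.presheaf z hU hU (i.c.app (op U) a) 0 (hb.trans (map_zero _).symm)
  rw [map_zero] at h
  obtain ⟨W, rfl⟩ := exists_preimage_eq h1 V
  refine ⟨U ⊓ W, ⟨hU, hzV⟩, X.presheaf.map (homOfLE inf_le_left).op a, ?_,
    X.presheaf.germ_res_apply (homOfLE inf_le_left) (i.base z) _ a⟩
  rw [app_res]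
  have := congrArg (Z.presheaf.map (homOfLE (show (Opens.map i.base).obj (U ⊓ W) ≤
    (Opens.map i.base).obj W from fun _ hw => hw.2)).op) h
  rw [map_zero, ← ConcreteCategory.comp_apply, ← Functor.map_comp] at this
  exact this

section Lift

variable (i : Z ⟶ X) (f : Y ⟶ X)
  (hkill : ∀ (U : Opens X.toTopCat) (s : X.presheaf.obj (op U)),
    i.c.app (op U) s = 0 → f.c.app (op U) s = 0)

include hkill in
lemma range_subset (h1 : IsClosed (Set.range i.base)) :
    Set.range f.base ⊆ Set.range i.base := by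
  rintro _ ⟨y, rfl⟩
  by_contra hy
  let U : Opens X.toTopCat := ⟨(Set.range i.base)ᶜ, h1.isOpen_compl⟩
  have hbot : (Opens.map i.base).obj U = ⊥ := eq_bot_iff.2 fun z hz => hz ⟨z, rfl⟩
  have hss : Subsingleton (Z.presheaf.obj (op ((Opens.map i.base).obj U))) := by
    rw [hbot]
    exact CommRingCat.subsingleton_of_isTerminal Z.sheaf.isTerminalOfEmpty
  have h0 : f.c.app (op U) 1 = 0 := hkill U 1 (hss.elim _ _)
  rw [map_one] at h0
  have := congrArg (Y.presheaf.germ ((Opens.map f.base).obj U) y hy) h0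
  rw [map_one, map_zero] at this
  exact one_ne_zero this

/-- the map on stalks of the lift -/
noncomputable def transfer {z : Z} {y : Y} (h : i.base z = f.base y) :
    X.presheaf.stalk (i.base z) →+* Y.presheaf.stalk y :=
  (f.stalkMap y).hom.comp (X.presheaf.stalkSpecializes (specializes_of_eq h.symm)).hom

lemma transfer_germ {z : Z} {y : Y} (h : i.base z = f.base y) (U : Opens X.toTopCat)
    (hU : i.base z ∈ U) (a : X.presheaf.obj (op U)) :
    transfer i f h (X.presheaf.germ U (i.base z) hU a) =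
      Y.presheaf.germ ((Opens.map f.base).obj U) y (show f.base y ∈ U from h ▸ hU)
        (f.c.app (op U) a) := by
  change f.stalkMap y (X.presheaf.stalkSpecializes _ _) = _
  rw [TopCat.Presheaf.germ_stalkSpecializes_apply, germ_stalkMap]

include hkill in
lemma ker_stalkMap_le (h1 : Topology.IsInducing i.base) {z : Z} {y : Y}
    (h : i.base z = f.base y) :
    RingHom.ker (i.stalkMap z).hom ≤ RingHom.ker (transfer i f h) := by
  intro b hb
  obtain ⟨W, hW, a, ha, rfl⟩ := exists_killed_of_stalkMap_eq_zero h1 z b hb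
  rw [RingHom.mem_ker, transfer_germ, hkill W a ha, map_zero]

variable {i f}
variable (h1 : Topology.IsInducing i.base) (h2 : TopCat.Presheaf.IsLocallySurjective i.c)

/-- The stalk map of the lift. -/
noncomputable def phi {z : Z} {y : Y} (h : i.base z = f.base y) :
    Z.presheaf.stalk z →+* Y.presheaf.stalk y :=
  RingHom.liftOfSurjective (i.stalkMap z).hom (stalkMap_surjective h1 h2 z)
    ⟨transfer i f h, ker_stalkMap_le i f hkill h1 h⟩

lemma phi_stalkMap {z : Z} {y : Y} (h : i.base z = f.base y) (b) :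
    phi hkill h1 h2 h (i.stalkMap z b) = transfer i f h b :=
  RingHom.liftOfRightInverse_comp_apply _ _ _ _ b

include hkill h1 h2 in
lemma exists_lift_of_base (G : Y.toTopCat ⟶ Z.toTopCat) (hG : ∀ y, i.base (G y) = f.base y) :
    ∃ g : Y ⟶ Z, g ≫ i = f := by
  have key : ∀ (V : Opens Z.toTopCat) (s : Z.presheaf.obj (op V)),
      ∃ t : Y.presheaf.obj (op ((Opens.map G).obj V)), ∀ (y : Y) (hy : G y ∈ V),
        Y.presheaf.germ ((Opens.map G).obj V) y hy t =
          phi hkill h1 h2 (hG y) (Z.presheaf.germ V (G y) hy s) := by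
    intro V s
    choose W hW a hWV ha using fun y : (Opens.map G).obj V =>
      exists_local_lift h1 h2 V s (G y.1) y.2
    have hle : ∀ y, (Opens.map f.base).obj (W y) ≤ (Opens.map G).obj V := fun y y' hy' =>
      hWV y (show i.base (G y') ∈ W y by rw [hG]; exact hy')
    have hg : ∀ (y : (Opens.map G).obj V) (y' : Y) (hy' : f.base y' ∈ W y),
        Y.presheaf.germ ((Opens.map f.base).obj (W y)) y' hy' (f.c.app (op (W y)) (a y)) =
          phi hkill h1 h2 (hG y') (Z.presheaf.germ V (G y') (hle y hy') s) := by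
      intro y y' hy'
      have hy'' : i.base (G y') ∈ W y := by rw [hG]; exact hy'
      have e := germ_stalkMap i (W y) (G y') hy'' (a y)
      rw [ha y] at e
      erw [Z.presheaf.germ_res_apply (homOfLE (hWV y)) (G y') hy'' s] at e
      rw [← e, phi_stalkMap, transfer_germ]
    obtain ⟨t, ht, -⟩ := Y.sheaf.existsUnique_gluing'
      (fun y => (Opens.map f.base).obj (W y)) ((Opens.map G).obj V)
      (fun y => homOfLE (hle y))
      (fun y hy => Opens.mem_iSup.2 ⟨⟨y, hy⟩, show f.base y ∈ W ⟨y, hy⟩ by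
        rw [← hG]; exact hW ⟨y, hy⟩⟩)
      (fun y => f.c.app (op (W y)) (a y)) (by
        intro y₁ y₂
        refine sec_ext (Y := Y) fun y' hy' => ?_
        erw [Y.presheaf.germ_res_apply, Y.presheaf.germ_res_apply]
        rw [hg y₁ y' hy'.1, hg y₂ y' hy'.2])
    refine ⟨t, fun y hy => ?_⟩
    have hy' : f.base y ∈ W ⟨y, hy⟩ := by rw [← hG]; exact hW ⟨y, hy⟩
    rw [← hg ⟨y, hy⟩ y hy', ← ht ⟨y, hy⟩]
    exact (Y.presheaf.germ_res_apply (homOfLE (hle _)) y hy' t).symm
  choose T hT using key
  let τ : ∀ V : Opens Z.toTopCat, Z.presheaf.obj (op V) →+*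
      Y.presheaf.obj (op ((Opens.map G).obj V)) := fun V =>
    { toFun := T V
      map_one' := sec_ext fun y hy => by
        rw [hT V 1 y hy, map_one, map_one, map_one]
      map_zero' := sec_ext fun y hy => by
        rw [hT V 0 y hy, map_zero, map_zero, map_zero]
      map_add' := fun s t => sec_ext fun y hy => by
        rw [map_add, hT V _ y hy, hT V _ y hy, hT V _ y hy, map_add, map_add]
      map_mul' := fun s t => sec_ext fun y hy => by
        rw [map_mul, hT V _ y hy, hT V _ y hy, hT V _ y hy, map_mul, map_mul] }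
  let g₀ : Y.toPresheafedSpace ⟶ Z.toPresheafedSpace :=
    { base := G
      c :=
        { app := fun V => CommRingCat.ofHom (τ V.unop)
          naturality := fun V₁ V₂ r => by
            ext s
            refine sec_ext fun y hy => ?_
            change Y.presheaf.germ _ y hy (T V₂.unop (Z.presheaf.map r s)) =
              Y.presheaf.germ _ y hy (Y.presheaf.map _ (T V₁.unop s))
            erw [Y.presheaf.germ_res_apply]
            erw [hT, hT]
            congr 1
            exact Z.presheaf.germ_res_apply r.unop (G y) hy s } }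
  have hstalk : ∀ (y : Y) (b), g₀.stalkMap y b = phi hkill h1 h2 (hG y) b := by
    intro y b
    obtain ⟨V, hV, s, rfl⟩ := Z.presheaf.exists_germ_eq b
    erw [PresheafedSpace.stalkMap_germ_apply g₀ V y hV s]
    exact hT V s y hV
  let g : Y ⟶ Z := ⟨g₀, fun y => ⟨fun b hb => by
    obtain ⟨c, rfl⟩ := stalkMap_surjective h1 h2 (G y) b
    erw [hstalk, phi_stalkMap] at hb
    have : IsIso (X.presheaf.stalkSpecializes (specializes_of_eq (hG y).symm)) :=
      (X.presheaf.stalkCongr (Inseparable.of_eq (hG y))).isIso_hom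
    exact (IsUnit.of_map (X.presheaf.stalkSpecializes (specializes_of_eq (hG y).symm)).hom c
      (IsUnit.of_map (f.stalkMap y).hom _ hb)).map (i.stalkMap (G y)).hom⟩⟩
  refine ⟨g, forgetToSheafedSpace.map_injective (SheafedSpace.hom_stalk_ext _ _ ?_ ?_)⟩
  · ext y; exact hG y
  · intro y
    refine TopCat.Presheaf.stalk_hom_ext _ fun U hU => ?_
    ext a
    change (g ≫ i).stalkMap y (X.presheaf.germ U (i.base (G y)) hU a) =
      f.stalkMap y (X.presheaf.stalkSpecializes (specializes_of_eq (hG y).symm)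
        (X.presheaf.germ U (i.base (G y)) hU a))
    erw [LocallyRingedSpace.stalkMap_comp]
    exact (hstalk y _).trans (phi_stalkMap hkill h1 h2 (hG y) _)

end Lift

theorem exists_lift {i : Z ⟶ X} (h1 : Topology.IsClosedEmbedding i.base)
    (h2 : TopCat.Presheaf.IsLocallySurjective i.c) (f : Y ⟶ X)
    (hkill : ∀ (U : Opens X.toTopCat) (s : X.presheaf.obj (op U)),
      i.c.app (op U) s = 0 → f.c.app (op U) s = 0) :
    ∃ g : Y ⟶ Z, g ≫ i = f := by
  have hr : ∀ y, ∃ z, i.base z = f.base y := fun y =>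
    range_subset i f hkill h1.isClosed_range ⟨y, rfl⟩
  choose G hG using hr
  have hc : Continuous G := by
    rw [h1.isInducing.continuous_iff]
    rw [show i.base ∘ G = f.base from funext hG]
    exact f.base.hom.continuous
  exact exists_lift_of_base hkill h1.isInducing h2 (TopCat.ofHom ⟨G, hc⟩) hG

theorem lift_unique {i : Z ⟶ X} (h1 : Topology.IsClosedEmbedding i.base)
    (h2 : TopCat.Presheaf.IsLocallySurjective i.c) {g g' : Y ⟶ Z} (h : g ≫ i = g' ≫ i) :
    g = g' := by
  have hb : g.base = g'.base := by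
    ext y
    exact h1.injective (congrArg (fun k : Y ⟶ X => k.base y) h)
  refine forgetToSheafedSpace.map_injective (SheafedSpace.hom_stalk_ext _ _ hb ?_)
  intro y
  ext b
  obtain ⟨c, rfl⟩ := stalkMap_surjective h1.isInducing h2 (g.base y) b
  obtain ⟨U, hU, a, rfl⟩ := X.presheaf.exists_germ_eq c
  have e := ConcreteCategory.congr_hom (stalkMap_congr_hom (g ≫ i) (g' ≫ i) h y)
    (X.presheaf.germ U ((g ≫ i).base y) hU a)
  have e1 := germ_stalkMap (g ≫ i) U y hU a
  have hU' : (g' ≫ i).base y ∈ U := by rw [← h]; exact hU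
  have e2 := germ_stalkMap (g' ≫ i) U y hU' a
  change (g ≫ i).stalkMap y _ = (g' ≫ i).stalkMap y (X.presheaf.stalkSpecializes _ _) at e
  change (g.stalkMap y) (i.stalkMap (g.base y) (X.presheaf.germ U _ hU a)) =
    g'.stalkMap y (Z.presheaf.stalkSpecializes (specializes_of_eq (show g'.base y = g.base y by rw [hb]))
      (i.stalkMap (g.base y) (X.presheaf.germ U _ hU a)))
  rw [germ_stalkMap i U (g.base y) hU a]
  refine (germ_stalkMap g ((Opens.map i.base).obj U) y hU _).trans ?_
  refine Eq.trans ?_ (congrArg (g'.stalkMap y) (Z.presheaf.germ_stalkSpecializes_apply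
    (U := (Opens.map i.base).obj U) hU _ _)).symm
  refine Eq.trans ?_ (germ_stalkMap g' ((Opens.map i.base).obj U) y hU' _).symm
  exact e1.symm.trans (e.trans ((congrArg ((g' ≫ i).stalkMap y)
    (X.presheaf.germ_stalkSpecializes_apply (U := U) hU _ a)).trans e2))

end Groth.Agent.LRSLib
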