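import Groth.Agent.LRSLib.ClosedImm
import Mathlib.AlgebraicGeometry.IdealSheaf.Subscheme
import Mathlib.AlgebraicGeometry.Morphisms.ClosedImmersion
import Mathlib.RingTheory.Localization.Ideal

/-!
Closed immersions of locally ringed spaces with scheme target are closed subschemes.
-/

universe u

open CategoryTheory TopologicalSpace Opposite AlgebraicGeometry

namespace Groth.Agent.LRSLib

section General

variable {X Z : LocallyRingedSpace.{u}}

lemma mem_ker_stalkFunctor_iff (i : Z ⟶ X) (x : X) (b : X.presheaf.stalk x) :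
    b ∈ RingHom.ker ((TopCat.Presheaf.stalkFunctor CommRingCat x).map i.c).hom ↔
      ∃ (W : Opens X.toTopCat) (hW : x ∈ W) (a : X.presheaf.obj (op W)),
        i.c.app (op W) a = 0 ∧ X.presheaf.germ W x hW a = b := by
  constructor
  · intro hb
    obtain ⟨U, hU, a, rfl⟩ := X.presheaf.exists_germ_eq b
    replace hb := RingHom.mem_ker.1 hb
    erw [TopCat.Presheaf.stalkFunctor_map_germ_apply] at hb
    obtain ⟨W, hxW, iU, iU', h⟩ := TopCat.Presheaf.germ_eq (U := U) (V := U)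
      ((TopCat.Presheaf.pushforward CommRingCat i.base).obj Z.presheaf) x hU hU
      (i.c.app (op U) a) 0 (hb.trans (map_zero _).symm)
    rw [map_zero] at h
    refine ⟨W, hxW, X.presheaf.map iU.op a, ?_, X.presheaf.germ_res_apply iU x hxW a⟩
    exact (ConcreteCategory.congr_hom (i.c.naturality iU.op) a).trans h
  · rintro ⟨W, hW, a, ha, rfl⟩
    refine RingHom.mem_ker.2 ?_
    erw [TopCat.Presheaf.stalkFunctor_map_germ_apply]
    rw [ha]
    exact map_zero _

end General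

lemma res_res {T : TopCat.{u}} (F : T.Presheaf CommRingCat.{u}) {A B C : Opens T}
    (p : op A ⟶ op C) (q : op A ⟶ op B) (r : op B ⟶ op C) (s : F.obj (op A)) :
    F.map p s = F.map r (F.map q s) := by
  rw [← ConcreteCategory.comp_apply, ← F.map_comp, Subsingleton.elim p (q ≫ r)]

lemma isLocallySurjective_of_isClosedImmersion {X Y : Scheme.{u}} (f : X ⟶ Y)
    [AlgebraicGeometry.IsClosedImmersion f] : TopCat.Presheaf.IsLocallySurjective f.c := by
  rw [TopCat.Presheaf.isLocallySurjective_iff]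
  intro U t x hx
  by_cases hr : x ∈ Set.range f
  · obtain ⟨x', rfl⟩ := hr
    obtain ⟨b, hb⟩ := f.stalkMap_surjective x' (X.presheaf.germ (f ⁻¹ᵁ U) x' hx t)
    obtain ⟨W, hW, a, rfl⟩ := Y.presheaf.exists_germ_eq b
    erw [Scheme.Hom.germ_stalkMap_apply f W x' hW a] at hb
    obtain ⟨V, hxV, iW, iU, h⟩ := X.presheaf.germ_eq x' hW hx _ _ hb
    obtain ⟨V', hV'o, hV'⟩ := f.isClosedEmbedding.isInducing.isOpen_iff.1 V.2
    refine ⟨⟨V', hV'o⟩ ⊓ W ⊓ U, inf_le_right,
      ⟨Y.presheaf.map (homOfLE (inf_le_left.trans inf_le_right)).op a, ?_⟩, ?_⟩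
    · have hle : f ⁻¹ᵁ (⟨V', hV'o⟩ ⊓ W ⊓ U : Y.Opens) ≤ V := fun z hz =>
        (Set.ext_iff.1 hV' z).1 hz.1.1
      have := congrArg (X.presheaf.map (homOfLE hle).op) h
      exact ((ConcreteCategory.congr_hom (f.c.naturality _) a).trans
        (res_res X.presheaf _ _ _ (f.app W a))).trans (this.trans (res_res X.presheaf _ _ _ t).symm)
    · exact ⟨⟨(Set.ext_iff.1 hV' x').2 hxV, hW⟩, hx⟩
  · let V : Y.Opens := ⟨(Set.range f)ᶜ, f.isClosedEmbedding.isClosed_range.isOpen_compl⟩ ⊓ U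
    refine ⟨V, inf_le_right, ⟨0, ?_⟩, hr, hx⟩
    have hbot : f ⁻¹ᵁ V = ⊥ := eq_bot_iff.2 fun z hz => hz.1 ⟨z, rfl⟩
    have : Subsingleton Γ(X, f ⁻¹ᵁ V) := by
      rw [hbot]
      exact CommRingCat.subsingleton_of_isTerminal X.sheaf.isTerminalOfEmpty
    exact this.elim _ _

lemma kerLocallyGenerated_of_isClosedImmersion {X Y : Scheme.{u}} (f : X ⟶ Y)
    [AlgebraicGeometry.IsClosedImmersion f] : LRSImm.KerLocallyGenerated f.toLRSHom := by
  intro x
  obtain ⟨U, hU, hxU, -⟩ := exists_isAffineOpen_mem_and_subset (U := (⊤ : Y.Opens))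
    (x := x) trivial
  have hmemU : ∀ j ∈ f.ker.ideal ⟨U, hU⟩, f.app U j = 0 := fun j hj => by
    rw [Scheme.Hom.ker_apply] at hj
    exact hj
  refine ⟨U, hxU, ↥(f.ker.ideal ⟨U, hU⟩), fun j => j.1, fun j => hmemU j.1 j.2,
    fun x' hx' => ?_⟩
  apply le_antisymm
  · refine Ideal.span_le.2 ?_
    rintro _ ⟨j, rfl⟩
    exact (mem_ker_stalkFunctor_iff f.toLRSHom x' _).2 ⟨U, hx', j.1, hmemU j.1 j.2, rfl⟩
  · intro b hb
    obtain ⟨W, hW, a, ha, rfl⟩ := (mem_ker_stalkFunctor_iff _ _ _).1 hb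
    obtain ⟨r, hr, hxr⟩ := hU.exists_basicOpen_le ⟨x', hW⟩ hx'
    have hmem : Y.presheaf.map (homOfLE hr).op a ∈
        (f.ker.ideal ⟨U, hU⟩).map (Y.presheaf.map (homOfLE (Y.basicOpen_le r)).op).hom := by
      rw [f.ker.map_ideal_basicOpen ⟨U, hU⟩ r, Scheme.Hom.ker_apply]
      refine RingHom.mem_ker.2 ?_
      refine (ConcreteCategory.congr_hom (f.c.naturality (homOfLE hr).op) a).trans ?_
      change (X.presheaf.map _) (f.c.app (op W) a) = 0
      erw [ha]
      exact map_zero _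
    have := Ideal.mem_map_of_mem (Y.presheaf.germ (Y.basicOpen r) x' hxr).hom hmem
    rw [Ideal.map_map, ← CommRingCat.hom_comp, TopCat.Presheaf.germ_res,
      TopCat.Presheaf.germ_res_apply] at this
    rw [← Set.image_univ]
    refine Ideal.span_mono ?_ (show _ ∈ Ideal.span _ from this)
    rintro _ ⟨s, hs, rfl⟩
    exact ⟨⟨s, hs⟩, trivial, rfl⟩

theorem isClosedImmersion_of_isClosedImmersion {X Y : Scheme.{u}} (f : X ⟶ Y)
    [AlgebraicGeometry.IsClosedImmersion f] : LRSImm.IsClosedImmersion f.toLRSHom :=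
  ⟨f.isClosedEmbedding, isLocallySurjective_of_isClosedImmersion f,
    kerLocallyGenerated_of_isClosedImmersion f⟩

section SchemeTarget

variable {X : Scheme.{u}} {Z : LocallyRingedSpace.{u}} (i : Z ⟶ X.toLocallyRingedSpace)

/-- the kernel of `i` on sections over an affine open -/
noncomputable def kerOn (U : X.Opens) : Ideal Γ(X, U) :=
  RingHom.ker (i.c.app (op U)).hom

lemma mem_kerOn {U : X.Opens} {a : Γ(X, U)} : a ∈ kerOn i U ↔ i.c.app (op U) a = 0 := Iff.rfl

lemma kerOn_res {U V : X.Opens} (h : V ≤ U) {a : Γ(X, U)} (ha : a ∈ kerOn i U) :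
    X.presheaf.map (homOfLE h).op a ∈ kerOn i V := by
  rw [mem_kerOn] at ha ⊢
  erw [app_res i h a, ha]
  exact map_zero _

lemma kerOn_of_cover {U : X.Opens} {ι : Type*} (W : ι → X.Opens) (hW : ∀ k, W k ≤ U)
    (hcov : ∀ x ∈ U, ∃ k, x ∈ W k) (a : Γ(X, U))
    (h : ∀ k, X.presheaf.map (homOfLE (hW k)).op a ∈ kerOn i (W k)) : a ∈ kerOn i U := by
  rw [mem_kerOn]
  refine sec_ext (Y := Z) fun z hz => ?_
  obtain ⟨k, hk⟩ := hcov (i.base z) hz
  have e := h k
  rw [mem_kerOn] at e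
  erw [app_res i (hW k) a] at e
  have e' := congrArg (Z.presheaf.germ ((Opens.map i.base).obj (W k)) z hk) e
  erw [Z.presheaf.germ_res_apply] at e'
  rw [map_zero] at e' ⊢
  exact e'

variable {i}

lemma exists_pow_mul_mem_kerOn_local (hk : LRSImm.KerLocallyGenerated i) {U : X.Opens}
    (g a : Γ(X, U)) (ha : X.presheaf.map (homOfLE (X.basicOpen_le g)).op a ∈
      kerOn i (X.basicOpen g)) (x : X) (hx : x ∈ U) :
    ∃ (W : X.Opens) (hWU : W ≤ U) (_ : x ∈ W) (m : ℕ),
      X.presheaf.map (homOfLE hWU).op (g ^ m * a) ∈ kerOn i W := by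
  obtain ⟨U₀, hx₀, ι, s, hs0, hspan⟩ := hk x
  obtain ⟨W, hW, hxW, hWsub⟩ := exists_isAffineOpen_mem_and_subset
    (U := (U ⊓ U₀ : X.Opens)) (x := x) ⟨hx, hx₀⟩
  have hWU : W ≤ U := fun z hz => (hWsub hz).1
  have hW0 : W ≤ U₀ := fun z hz => (hWsub hz).2
  refine ⟨W, hWU, hxW, ?_⟩
  let I : Ideal Γ(X, W) := Ideal.span (Set.range fun j => X.presheaf.map (homOfLE hW0).op (s j))
  have hI : I ≤ kerOn i W := by
    rw [Ideal.span_le]
    rintro _ ⟨j, rfl⟩
    exact kerOn_res i hW0 (hs0 j)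
  set g' := X.presheaf.map (homOfLE hWU).op g with hg'
  set a' := X.presheaf.map (homOfLE hWU).op a with ha'
  have hVU : X.basicOpen g' ≤ X.basicOpen g := by
    rw [hg', X.basicOpen_res]; exact inf_le_right
  have hV := hW.basicOpen g'
  have hmem : algebraMap Γ(X, W) Γ(X, X.basicOpen g') a' ∈
      I.map (algebraMap Γ(X, W) Γ(X, X.basicOpen g')) := by
    rw [hV.mem_ideal_iff]
    intro x' hx'
    have hx'W : x' ∈ W := X.basicOpen_le g' hx'
    change X.presheaf.germ _ x' hx' (X.presheaf.map _ a') ∈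
      Ideal.map (X.presheaf.germ _ x' hx').hom (Ideal.map (X.presheaf.map _).hom I)
    rw [Ideal.map_map, ← CommRingCat.hom_comp, TopCat.Presheaf.germ_res,
      TopCat.Presheaf.germ_res_apply, ha', TopCat.Presheaf.germ_res_apply, Ideal.map_span,
      ← Set.range_comp]
    have hb : X.presheaf.germ U x' (hWU hx'W) a ∈
        RingHom.ker ((TopCat.Presheaf.stalkFunctor CommRingCat x').map i.c).hom :=
      (mem_ker_stalkFunctor_iff i x' _).2 ⟨X.basicOpen g, hVU hx', _, ha,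
        X.presheaf.germ_res_apply _ x' (hVU hx') a⟩
    rw [← hspan x' (hW0 hx'W)] at hb
    have e : ((X.presheaf.germ W x' hx'W).hom ∘
        fun j => X.presheaf.map (homOfLE hW0).op (s j)) =
        fun j => X.presheaf.germ U₀ x' (hW0 hx'W) (s j) :=
      funext fun j => X.presheaf.germ_res_apply _ x' hx'W (s j)
    exact (congrArg (fun F => X.presheaf.germ U x' (hWU hx'W) a ∈ Ideal.span (Set.range F))
      e).mpr hb
  have := hW.isLocalization_basicOpen g'
  obtain ⟨c, hc, hca⟩ := (IsLocalization.algebraMap_mem_map_algebraMap_iff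
    (Submonoid.powers g') _ I a').1 hmem
  obtain ⟨m, rfl⟩ := hc
  refine ⟨m, hI ?_⟩
  rw [map_mul, map_pow]
  exact hca

lemma exists_pow_mul_mem_kerOn (hk : LRSImm.KerLocallyGenerated i) {U : X.Opens}
    (hU : IsAffineOpen U) (g a : Γ(X, U))
    (ha : X.presheaf.map (homOfLE (X.basicOpen_le g)).op a ∈ kerOn i (X.basicOpen g)) :
    ∃ m : ℕ, g ^ m * a ∈ kerOn i U := by
  choose W hWU hxW m hm using exists_pow_mul_mem_kerOn_local hk g a ha
  obtain ⟨t, ht⟩ := hU.isCompact.elim_finite_subcover (fun x : U => (W x.1 x.2 : Set X))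
    (fun x => (W x.1 x.2).2) (fun x hx => Set.mem_iUnion.2 ⟨⟨x, hx⟩, hxW x hx⟩)
  refine ⟨t.sup fun x => m x.1 x.2, kerOn_of_cover i (fun x : t => W x.1.1 x.1.2)
    (fun x => hWU _ _) (fun x hx => ?_) _ fun x => ?_⟩
  · obtain ⟨y, hy, hxy⟩ := by simpa using ht hx
    exact ⟨⟨⟨y, _⟩, hxy.1⟩, hxy.2⟩
  · have hle : m x.1.1 x.1.2 ≤ t.sup fun x => m x.1 x.2 :=
      Finset.le_sup (f := fun x : U => m x.1 x.2) x.2
    rw [← Nat.sub_add_cancel hle, pow_add, mul_assoc, map_mul]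
    exact Ideal.mul_mem_left _ _ (hm _ _)

/-- The ideal sheaf of a closed immersion of locally ringed spaces into a scheme. -/
noncomputable def kerData (hk : LRSImm.KerLocallyGenerated i) : X.IdealSheafData where
  ideal U := kerOn i U.1
  map_ideal_basicOpen U g := by
    refine le_antisymm (Ideal.map_le_iff_le_comap.2 fun a ha =>
      kerOn_res i (X.basicOpen_le g) ha) fun b hb => ?_
    have := U.2.isLocalization_basicOpen g
    obtain ⟨⟨a, ⟨_, n, rfl⟩⟩, hab⟩ := IsLocalization.surj (Submonoid.powers g) b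
    have ha : X.presheaf.map (homOfLE (X.basicOpen_le g)).op a ∈ kerOn i (X.basicOpen g) := by
      change algebraMap Γ(X, U) Γ(X, X.basicOpen g) a ∈ _
      rw [← hab]
      exact Ideal.mul_mem_right _ _ hb
    obtain ⟨m, hm⟩ := exists_pow_mul_mem_kerOn hk U.2 g a ha
    have h1 := Ideal.mem_map_of_mem (algebraMap Γ(X, U) Γ(X, X.basicOpen g)) hm
    rw [map_mul, ← hab, mul_left_comm, ← map_mul, ← pow_add] at h1
    exact (Ideal.mul_unit_mem_iff_mem _ (IsLocalization.map_units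
      (Γ(X, X.basicOpen g)) (⟨g ^ (m + n), m + n, rfl⟩ : Submonoid.powers g))).1 h1

lemma killed_iff_of_affine {Z' : LocallyRingedSpace.{u}} (j : Z' ⟶ X.toLocallyRingedSpace)
    (h : ∀ U : X.affineOpens, kerOn i U.1 = kerOn j U.1) (U : X.Opens) (a : Γ(X, U)) :
    i.c.app (op U) a = 0 ↔ j.c.app (op U) a = 0 := by
  rw [← mem_kerOn, ← mem_kerOn]
  have hcov : ∀ x ∈ U, ∃ V : {V : X.affineOpens // V.1 ≤ U}, x ∈ V.1.1 := fun x hx => by
    obtain ⟨W, hW, hxW, hWU⟩ := exists_isAffineOpen_mem_and_subset hx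
    exact ⟨⟨⟨W, hW⟩, hWU⟩, hxW⟩
  constructor <;> intro ha <;> refine kerOn_of_cover _ _ (fun V => V.2) hcov a fun V => ?_
  · rw [← h]; exact kerOn_res i V.2 ha
  · rw [h]; exact kerOn_res j V.2 ha

theorem exists_iso_of_killed_iff {Z' : LocallyRingedSpace.{u}} {j : Z' ⟶ X.toLocallyRingedSpace}
    (hi : LRSImm.IsClosedImmersion i) (hj : LRSImm.IsClosedImmersion j)
    (h : ∀ U : X.affineOpens, kerOn i U.1 = kerOn j U.1) :
    ∃ e : Z' ≅ Z, e.hom ≫ i = j := by
  obtain ⟨a, ha⟩ := exists_lift hi.1 hi.2.1 j fun U s => (killed_iff_of_affine j h U s).1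
  obtain ⟨b, hb⟩ := exists_lift hj.1 hj.2.1 i fun U s => (killed_iff_of_affine j h U s).2
  refine ⟨⟨a, b, lift_unique hj.1 hj.2.1 ?_, lift_unique hi.1 hi.2.1 ?_⟩, ha⟩
  · rw [Category.assoc, hb, ha, Category.id_comp]
  · rw [Category.assoc, ha, hb, Category.id_comp]

lemma kerOn_toLRSHom {Z' : Scheme.{u}} (j : Z' ⟶ X) [QuasiCompact j] (U : X.affineOpens) :
    kerOn j.toLRSHom U.1 = j.ker.ideal U := by
  rw [Scheme.Hom.ker_apply]; rfl

theorem exists_iso_subscheme (hi : LRSImm.IsClosedImmersion i) :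
    ∃ e : (kerData hi.2.2).subscheme.toLocallyRingedSpace ≅ Z,
      e.hom ≫ i = (kerData hi.2.2).subschemeι.toLRSHom :=
  exists_iso_of_killed_iff hi (isClosedImmersion_of_isClosedImmersion _) fun U => by
    rw [kerOn_toLRSHom, Scheme.IdealSheafData.ker_subschemeι]; rfl

end SchemeTarget

end Groth.Agent.LRSLib
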